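import Cfsg.Agent.M12Rec99.Sharp12
import Cfsg.Agent.Lib.Perm.DegreeElevenMathieu
import Cfsg.Agent.Lib.Steiner.M11.Index11
import Cfsg.Agent.FGS80.Burnside

/-!
A simple group of order 95040 with a subgroup of index 12 is M₁₂ (helper99).
-/

set_option autoImplicit false
set_option linter.unusedSectionVars false

namespace Cfsg.Agent.M12Rec99

open MulAction
open scoped Pointwise

/-- A solvable transitive group of prime degree has order at most `p (p - 1)`. -/
theorem card_le_of_solvable {H β : Type*} [Group H] [Finite H] [MulAction H β] [FaithfulSMul H β]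
    [IsPretransitive H β] {p : ℕ} (hp : p.Prime) (hβ : Nat.card β = p) (hsol : Group.IsSolvable H) :
    Nat.card H ≤ p * (p - 1) := by
  classical
  have : Finite β := Nat.finite_of_card_ne_zero (by rw [hβ]; exact hp.ne_zero)
  obtain ⟨b⟩ : Nonempty β := (Nat.card_pos_iff.mp (hβ ▸ hp.pos)).1
  have hpr : IsPreprimitive H β := IsPreprimitive.of_prime_card (by rw [hβ]; exact hp)
  obtain ⟨n, hn⟩ := hsol.solvable
  have hnt : Nontrivial H := by
    refine Finite.one_lt_card_iff_nontrivial.mp ?_
    have h := Subgroup.index_dvd_card (stabilizer H b)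
    rw [index_stabilizer_of_transitive, hβ] at h
    exact lt_of_lt_of_le hp.one_lt (Nat.le_of_dvd Nat.card_pos h)
  obtain ⟨m, hm, hm'⟩ : ∃ m, derivedSeries H m ≠ ⊥ ∧ derivedSeries H (m + 1) = ⊥ := by
    have hex : ∃ k, derivedSeries H k = ⊥ := ⟨n, hn⟩
    have h0 : Nat.find hex ≠ 0 := fun h => by
      have := Nat.find_spec hex
      rw [h, derivedSeries_zero] at this
      exact top_ne_bot this
    exact ⟨Nat.find hex - 1, Nat.find_min hex (by omega),
      by rw [Nat.sub_add_cancel (Nat.pos_of_ne_zero h0)]; exact Nat.find_spec hex⟩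
  set A := derivedSeries H m with hA
  have hAn : A.Normal := derivedSeries_normal H m
  have hcomm : ∀ x ∈ A, ∀ y ∈ A, x * y = y * x := fun x hx y hy => by
    rw [derivedSeries_succ, Subgroup.commutator_eq_bot_iff_le_centralizer] at hm'
    exact ((Subgroup.mem_centralizer_iff.mp (hm' hy)) x hx)
  have htr : IsPretransitive A β := by
    apply IsQuasiPreprimitive.isPretransitive_of_normal (G := H)
    intro h
    apply hm
    rw [eq_bot_iff]
    intro k hk
    rw [Subgroup.mem_bot]
    exact eq_of_smul_eq_smul fun x : β => by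
      have hx : x ∈ fixedPoints A β := h ▸ Set.mem_univ x
      rw [one_smul]
      exact hx ⟨k, hk⟩
  have hfix : ∀ x ∈ A, x • b = b → x = 1 := fun x hx hxb => eq_of_smul_eq_smul fun y : β => by
    obtain ⟨a, rfl⟩ := exists_smul_eq A b y
    rw [one_smul, Subgroup.smul_def, ← mul_smul, hcomm x hx a a.2, mul_smul, hxb]
  have hAc : Nat.card A = p := by
    rw [← hβ]
    refine Nat.card_eq_of_bijective (fun a : A => (a : H) • b) ⟨fun x y e => ?_, fun y => ?_⟩
    · have := hfix ((y : H)⁻¹ * x) (mul_mem (inv_mem y.2) x.2)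
        (by rw [mul_smul, show (x : H) • b = (y : H) • b from e, inv_smul_smul])
      exact Subtype.ext (inv_mul_eq_one.mp this).symm
    · exact exists_smul_eq A b y
  let f : stabilizer H b →* MulAut A := (MulAut.conjNormal (H := A)).comp (stabilizer H b).subtype
  have hinj : Function.Injective f := by
    rw [injective_iff_map_eq_one]
    intro h hh
    refine Subtype.ext (eq_of_smul_eq_smul fun y : β => ?_)
    obtain ⟨a, rfl⟩ := exists_smul_eq A b y
    have h1 : (h : H) * a * (h : H)⁻¹ = a := by
      rw [← MulAut.conjNormal_apply]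
      exact congrArg Subtype.val (DFunLike.congr_fun hh a)
    rw [Subgroup.coe_one, one_smul, Subgroup.smul_def, ← mul_smul, mul_inv_eq_iff_eq_mul.mp h1,
      mul_smul, mem_stabilizer_iff.mp h.2]
  have : Fact p.Prime := ⟨hp⟩
  have : IsCyclic A := isCyclic_of_prime_card hAc
  have hle := Nat.card_le_card_of_injective f hinj
  rw [IsCyclic.card_mulAut, hAc, Nat.totient_prime hp] at hle
  have h := (stabilizer H b).card_mul_index
  rw [index_stabilizer_of_transitive, hβ] at h
  calc Nat.card H = Nat.card (stabilizer H b) * p := h.symm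
    _ ≤ (p - 1) * p := Nat.mul_le_mul_right _ hle
    _ = p * (p - 1) := mul_comm _ _

variable {G : Type*} [Group G] [Finite G]

/-- The sign of an action of a non-abelian simple group is trivial. -/
theorem sign_eq_one [IsSimpleGroup G] (hcard : Nat.card G = 95040) (χ : G →* ℤˣ) (g : G) :
    χ g = 1 := by
  rcases IsSimpleGroup.eq_bot_or_eq_top_of_normal χ.ker inferInstance with h | h
  · exfalso
    have hle := Nat.card_le_card_of_injective χ ((MonoidHom.ker_eq_bot_iff χ).mp h)
    rw [hcard, Nat.card_eq_fintype_card, Fintype.card_units_int] at hle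
    omega
  · exact MonoidHom.mem_ker.mp (h ▸ Subgroup.mem_top g)

/-- An action of degree 12 of a simple group of order 95040 is sharply five-transitive. -/
theorem sharp_five {α : Type*} [Fintype α] [DecidableEq α] [MulAction G α] [IsPretransitive G α]
    (hG : Cfsg.IsM12 G) (hα : Fintype.card α = 12) :
    IsMultiplyPretransitive G α 5 ∧ ∀ x : Fin 5 ↪ α, stabilizer G x = ⊥ := by
  classical
  have := hG.1
  have : Fact (Nat.Prime 11) := ⟨by norm_num⟩
  have hfaith : FaithfulSMul G α := by
    rcases IsSimpleGroup.eq_bot_or_eq_top_of_normal (toPermHom G α).ker inferInstance with h | h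
    · exact ⟨fun {x y} hxy => (MonoidHom.ker_eq_bot_iff _).mp h (Equiv.ext hxy)⟩
    · exfalso
      have : Subsingleton α := ⟨fun x y => by
        obtain ⟨g, rfl⟩ := exists_smul_eq G x y
        exact (DFunLike.congr_fun (MonoidHom.mem_ker.mp (h ▸ Subgroup.mem_top g)) x).symm⟩
      have := Fintype.card_le_one_iff_subsingleton.mpr this
      omega
  obtain ⟨a⟩ : Nonempty α := Fintype.card_pos_iff.mp (by omega)
  let β := SubMulAction.ofStabilizer G a
  have : Fintype β := Fintype.ofFinite β
  have hne : ∀ x : β, (x : α) ≠ a := fun x => (SubMulAction.mem_ofStabilizer_iff G a).mp x.2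
  have hmemβ : ∀ x : α, x ≠ a → x ∈ β := fun x h => (SubMulAction.mem_ofStabilizer_iff G a).mpr h
  have hβ : Fintype.card β = 11 := by
    have h1 : (β : Set α) = {a}ᶜ := rfl
    have h3 : Nat.card β = Set.ncard ({a}ᶜ : Set α) := by
      rw [← h1]; exact Nat.card_coe_set_eq _
    rw [← Nat.card_eq_fintype_card, h3, Set.ncard_compl, Set.ncard_singleton,
      Nat.card_eq_fintype_card, hα]
  have hKc : Nat.card (stabilizer G a) = 7920 := by
    have h := (stabilizer G a).card_mul_index
    rw [index_stabilizer_of_transitive, Nat.card_eq_fintype_card (α := α), hα, hG.2] at h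
    omega
  set φ := toPermHom (stabilizer G a) β with hφ
  have hinj : Function.Injective φ := fun x y h => Subtype.ext (eq_of_smul_eq_smul fun z : α => by
    by_cases hz : z = a
    · rw [hz, mem_stabilizer_iff.mp x.2, mem_stabilizer_iff.mp y.2]
    · exact congrArg Subtype.val (DFunLike.congr_fun h ⟨z, hmemβ z hz⟩))
  set P := φ.range with hP
  have hPc : Nat.card P = 7920 := by
    rw [hP, ← Nat.card_congr (MonoidHom.ofInjective hinj).toEquiv, hKc]
  have heven : P ≤ alternatingGroup β := by
    rintro _ ⟨k, rfl⟩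
    rw [Equiv.Perm.mem_alternatingGroup]
    have h : toPermHom G α (k : G) = Equiv.Perm.ofSubtype (p := (· ∈ β)) (φ k) := by
      ext z
      by_cases hz : z = a
      · rw [Equiv.Perm.ofSubtype_apply_of_not_mem _ (fun h => hne ⟨z, h⟩ hz), hz]
        exact k.2
      · rw [Equiv.Perm.ofSubtype_apply_of_mem _ (hmemβ z hz)]
        rfl
    have := sign_eq_one hG.2 (Equiv.Perm.sign.comp (toPermHom G α)) (k : G)
    rw [MonoidHom.comp_apply, h, Equiv.Perm.sign_ofSubtype] at this
    exact this
  have hA : ¬ alternatingGroup β ≤ P := fun h => by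
    have hle := Nat.card_le_card_of_injective _ (Subgroup.inclusion_injective h)
    have : Nontrivial β := Fintype.one_lt_card_iff_nontrivial.mp (by omega)
    have h2 := two_mul_card_alternatingGroup (α := β)
    rw [Fintype.card_perm, hβ, ← Nat.card_eq_fintype_card,
      show Nat.factorial 11 = 39916800 by rfl] at h2
    omega
  obtain ⟨σ, hσ⟩ := exists_prime_orderOf_dvd_card' (G := P) 11 (by rw [hPc]; norm_num)
  have hσ' : orderOf (σ : Equiv.Perm β) = 11 := by rw [Subgroup.orderOf_coe, hσ]
  have hcyc : (σ : Equiv.Perm β).IsCycle :=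
    Equiv.Perm.isCycle_of_prime_order'' (by rw [hβ]; norm_num) (hσ'.trans hβ.symm)
  have hsupp : (σ : Equiv.Perm β).support = Finset.univ :=
    Finset.eq_univ_of_card _ (by rw [← hcyc.orderOf, hσ', hβ])
  have : IsPretransitive P β := ⟨fun x y => by
    obtain ⟨i, hi⟩ := hcyc.exists_zpow_eq (Equiv.Perm.mem_support.mp (hsupp ▸ Finset.mem_univ x))
      (Equiv.Perm.mem_support.mp (hsupp ▸ Finset.mem_univ y))
    exact ⟨σ ^ i, by rw [Subgroup.smul_def, Subgroup.coe_zpow]; exact hi⟩⟩
  have hprim : IsPreprimitive P β :=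
    IsPreprimitive.of_prime_card (by rw [Nat.card_eq_fintype_card, hβ]; norm_num)
  have h2 : IsMultiplyPretransitive P β 2 := by
    refine (Cfsg.Agent.FGS80.Burnside.isSolvable_or_two_transitive (G := P) hβ).resolve_left
      fun hs => ?_
    have := card_le_of_solvable (H := P) (β := β) (p := 11) (by norm_num)
      (by rw [Nat.card_eq_fintype_card, hβ]) hs
    omega
  obtain ⟨h4, hs4⟩ :=
    Perm.DegreeEleven.sharply_four_transitive hβ hprim hA heven h2 hPc
  have hs5 : ∀ x : Fin 5 ↪ α, stabilizer G x = ⊥ := by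
    intro x
    rw [eq_bot_iff]
    intro g hg
    rw [Subgroup.mem_bot]
    have hgi : ∀ i, g • x i = x i := fun i => DFunLike.congr_fun (mem_stabilizer_iff.mp hg) i
    obtain ⟨h, hh⟩ := exists_smul_eq G (x 0) a
    have hu : ∀ i, (h * g * h⁻¹) • (h • x i) = h • x i := fun i => by
      rw [mul_smul, mul_smul, inv_smul_smul, hgi]
    let k : stabilizer G a := ⟨h * g * h⁻¹, mem_stabilizer_iff.mpr (hh ▸ hu 0)⟩
    let y : Fin 4 ↪ β := ⟨fun i => ⟨h • x i.succ, hmemβ _ fun e =>
        Fin.succ_ne_zero i (x.injective (MulAction.injective h (e.trans hh.symm)))⟩,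
      fun i j e => Fin.succ_injective _ (x.injective (MulAction.injective h
        (congrArg Subtype.val e)))⟩
    have hk : (⟨φ k, k, rfl⟩ : P) ∈ stabilizer P y :=
      DFunLike.ext _ _ fun i => Subtype.ext (hu i.succ)
    rw [hs4 y, Subgroup.mem_bot] at hk
    have hk1 : k = 1 := hinj (by rw [map_one]; exact congrArg Subtype.val hk)
    exact conj_eq_one_iff.mp (congrArg Subtype.val hk1)
  exact ⟨Cfsg.Agent.Steiner.M11.isMultiplyPretransitive_of_free (by rw [hG.2, hα]; rfl) hs5, hs5⟩

/-- **A simple group of order 95040 with a subgroup of index 12 is M₁₂.** -/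
theorem nonempty_mulEquiv_of_index_twelve (hG : Cfsg.IsM12 G) (L : Subgroup G) (hL : L.index = 12)
    {d : Finset GolayPt} (hd : d ∈ Cfsg.dodecads) :
    Nonempty (G ≃* MulAction.stabilizer Cfsg.M24 d) := by
  classical
  have : Fintype (G ⧸ L) := Fintype.ofFinite _
  have hα : Fintype.card (G ⧸ L) = 12 := by
    rw [← Nat.card_eq_fintype_card, ← Subgroup.index_eq_card, hL]
  obtain ⟨h5, hs⟩ := sharp_five hG hα
  exact nonempty_mulEquiv_M12 hs hα hd

end Cfsg.Agent.M12Rec99
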