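import Cfsg.Agent.Lib.Steiner.Sharp11Unique
import Cfsg.Agent.Lib.Golay.M12

/-!
The sharply 5-transitive group of degree 12 is unique: it is the automorphism group of its
Steiner system S(5, 6, 12) (helper99).
-/

set_option autoImplicit false
set_option linter.unusedSectionVars false

namespace Cfsg.Agent.M12Rec99

open MulAction Cfsg.Agent.Steiner
open scoped Pointwise

variable {G : Type*} [Group G] {α : Type*} [Fintype α] [DecidableEq α] [MulAction G α]

/-- `e` lies outside `P` and is fixed by the setwise stabiliser of `P`. -/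
def IsSixth (G : Type*) [Group G] {α : Type*} [DecidableEq α] [MulAction G α]
    (P : Finset α) (e : α) : Prop :=
  e ∉ P ∧ ∀ h : G, P.image (h • ·) = P → h • e = e

/-- `e` is outside `insert a Q` and fixed by the elements fixing `a` that stabilise `Q`. -/
def IsFifth (G : Type*) [Group G] {α : Type*} [DecidableEq α] [MulAction G α]
    (a : α) (Q : Finset α) (e : α) : Prop :=
  e ≠ a ∧ e ∉ Q ∧ ∀ h : G, h • a = a → Q.image (h • ·) = Q → h • e = e

/-- The six-point blocks. -/
def blocks12 (G : Type*) [Group G] (α : Type*) [DecidableEq α] [MulAction G α] :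
    Set (Finset α) :=
  {B | ∃ P : Finset α, ∃ e : α, P.card = 5 ∧ IsSixth G P e ∧ B = insert e P}

theorem image_eq_of_forall {P : Finset α} (h : G) (hh : ∀ x ∈ P, h • x ∈ P) :
    P.image (h • ·) = P :=
  Finset.eq_of_subset_of_card_le (fun x hx => by
    obtain ⟨w, hw, rfl⟩ := Finset.mem_image.mp hx
    exact hh w hw) (by rw [Finset.card_image_of_injective _ (MulAction.injective h)])

variable [Finite G] [IsMultiplyPretransitive G α 5]
variable (hsharp : ∀ x : Fin 5 ↪ α, stabilizer G x = ⊥) (hα : Fintype.card α = 12)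
include hsharp hα

/-- In the stabiliser of a point: the fifth point, and its characterisation by a 3-cycle. -/
theorem exists_fifth_at (a : α) {Q : Finset α} (ha : a ∉ Q) (hQ : Q.card = 4) :
    ∃ e, IsFifth G a Q e ∧ (∀ e', IsFifth G a Q e' → e' = e) ∧
      ∀ x ∈ Q, IsFifth G a (insert e (Q.erase x)) x := by
  classical
  let β := SubMulAction.ofStabilizer G a
  have : Fintype G := Fintype.ofFinite G
  have : Fintype β := Fintype.ofFinite β
  have : Fintype (stabilizer G a) := Fintype.ofFinite _
  have hβ' : Nat.card β = 11 := by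
    have h1 : (β : Set α) = {a}ᶜ := rfl
    have h3 : Nat.card β = Set.ncard ({a}ᶜ : Set α) := by
      rw [← h1]; exact Nat.card_coe_set_eq _
    rw [h3, Set.ncard_compl, Set.ncard_singleton, Nat.card_eq_fintype_card, hα]
  have hβ : Fintype.card β = 11 := by rw [← Nat.card_eq_fintype_card, hβ']
  have : IsMultiplyPretransitive G α (Nat.succ 4) := ‹_›
  have : IsPretransitive G α := (isPreprimitive_of_is_two_pretransitive
    (isMultiplyPretransitive_of_le (G := G) (α := α) (n := 5) (by norm_num)
      (by rw [Nat.card_eq_fintype_card, hα]; norm_num))).toIsPretransitive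
  have : IsMultiplyPretransitive (stabilizer G a) β 4 :=
    (SubMulAction.ofStabilizer.isMultiplyPretransitive (n := 4) (a := a)).mp inferInstance
  have hs4 := stabilizer_sharp (G := G) a hsharp
  have hM : Cfsg.IsM11 (stabilizer G a) := simple_of_sharp4_degree11 hβ' hs4
  have hne : ∀ x : β, (x : α) ≠ a := fun x => (SubMulAction.mem_ofStabilizer_iff G a).mp x.2
  let R : Finset β := Q.subtype (· ∈ β)
  have hR : R.map (Function.Embedding.subtype (· ∈ β)) = Q :=
    Finset.subtype_map_of_mem fun x hx =>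
      (SubMulAction.mem_ofStabilizer_iff G a).mpr fun e => ha (e ▸ hx)
  have himg : ∀ (h : stabilizer G a) (S : Finset β),
      (S.image (h • ·) = S ↔ (S.map (Function.Embedding.subtype (· ∈ β))).image ((h : G) • ·) =
        S.map (Function.Embedding.subtype (· ∈ β))) := by
    intro h S
    rw [Finset.map_eq_image, Finset.image_image,
      ← (Finset.image_injective Subtype.val_injective).eq_iff, Finset.image_image]
    rfl
  have lift : ∀ (S : Finset β) (x : β),
      IsFifth G a (S.map (Function.Embedding.subtype (· ∈ β))) x ↔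
        x ∉ S ∧ ∀ h : stabilizer G a, S.image (h • ·) = S → h • x = x := by
    intro S x
    refine ⟨fun ⟨_, h1, h2⟩ => ⟨fun h => h1 (Finset.mem_map_of_mem _ h), fun h hh =>
      Subtype.ext (h2 h h.2 ((himg h S).mp hh))⟩, fun ⟨h1, h2⟩ => ⟨hne x, fun h => h1 ?_, ?_⟩⟩
    · obtain ⟨y, hy, hyx⟩ := Finset.mem_map.mp h
      exact Subtype.ext (show (y : α) = x from hyx) ▸ hy
    · intro h hha hh
      exact congrArg Subtype.val (h2 ⟨h, hha⟩ ((himg ⟨h, hha⟩ S).mpr hh))
  have hRc : R.card = 4 := by rw [← hQ, ← hR, Finset.card_map]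
  obtain ⟨e, heR, hfix, huniq⟩ := exists_unique_fifth hs4 hM hβ hRc
  refine ⟨e, hR ▸ (lift R e).mpr ⟨heR, hfix⟩, fun e' he' => ?_, fun x hx => ?_⟩
  · have hb : e' ∈ β := (SubMulAction.mem_ofStabilizer_iff G a).mpr he'.1
    obtain ⟨h1, h2⟩ := (lift R ⟨e', hb⟩).mp (hR.symm ▸ he')
    exact congrArg Subtype.val (huniq _ h1 h2)
  · have hb : x ∈ β := (SubMulAction.mem_ofStabilizer_iff G a).mpr fun e => ha (e ▸ hx)
    have hxR : (⟨x, hb⟩ : β) ∈ R := Finset.mem_subtype.mpr hx
    set T : Finset β := insert e (R.erase ⟨x, hb⟩) with hT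
    have hxT : (⟨x, hb⟩ : β) ∉ T := by
      rw [hT, Finset.mem_insert, Finset.mem_erase]
      rintro (h | ⟨h, -⟩)
      · exact heR (h ▸ hxR)
      · exact h rfl
    have hTc : T.card = 4 := by
      rw [hT, Finset.card_insert_of_notMem (fun h => heR (Finset.mem_of_mem_erase h)),
        Finset.card_erase_of_mem hxR, hRc]
    obtain ⟨f, hfT, hffix, -⟩ := exists_unique_fifth hs4 hM hβ hTc
    obtain ⟨B, -, hB⟩ := (steiner_sharpBlocks hs4 hM hβ).2 T hTc
    have hTR : T ⊆ insert e R := Finset.insert_subset_insert _ (Finset.erase_subset _ _)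
    have heq : insert f T = insert e R :=
      (hB _ ⟨⟨T, f, hTc, hfT, hffix, rfl⟩, Finset.subset_insert _ _⟩).trans
        (hB _ ⟨⟨R, e, hRc, heR, hfix, rfl⟩, hTR⟩).symm
    have hfx : f = ⟨x, hb⟩ := by
      have := heq.symm.subset (Finset.mem_insert_of_mem hxR)
      exact ((Finset.mem_insert.mp this).resolve_right hxT).symm
    have h := (lift T ⟨x, hb⟩).mpr ⟨hxT, hfx ▸ hffix⟩
    rw [hT, Finset.map_insert, Finset.map_erase, hR] at h
    exact h

theorem eq_one_of_five {g : G} {s : Finset α} (hs : 5 ≤ s.card) (hg : ∀ x ∈ s, g • x = x) :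
    g = 1 := by
  obtain ⟨x⟩ := Function.Embedding.nonempty_of_card_le (α := Fin 5) (β := s) (by simpa using hs)
  have h : g ∈ stabilizer G (x.trans (Function.Embedding.subtype (· ∈ s))) :=
    DFunLike.ext _ _ fun i => hg _ (x i).2
  rwa [hsharp, Subgroup.mem_bot] at h

theorem eq_of_five {g k : G} {s : Finset α} (hs : 5 ≤ s.card) (h : ∀ x ∈ s, g • x = k • x) :
    g = k :=
  (inv_mul_eq_one.mp (eq_one_of_five hsharp hα (g := k⁻¹ * g) hs fun x hx => by
    rw [mul_smul, h x hx, inv_smul_smul])).symm

/-- The fifth points of a five-set do not depend on the chosen point. -/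
theorem fifth_eq {P : Finset α} (hP : P.card = 5) {a b : α} (ha : a ∈ P) (hb : b ∈ P)
    {e e' : α} (he : IsFifth G a (P.erase a) e) (he' : IsFifth G b (P.erase b) e') : e = e' := by
  classical
  by_cases hab : a = b
  · subst hab
    obtain ⟨f, -, hu, -⟩ := exists_fifth_at hsharp hα a (Finset.notMem_erase a P)
      (by rw [Finset.card_erase_of_mem ha, hP])
    rw [hu e he, hu e' he']
  obtain ⟨c, d, f, hcd, hcf, hdf, hcdf⟩ := Finset.card_eq_three.mp
    (show ((P.erase a).erase b).card = 3 by
      rw [Finset.card_erase_of_mem (Finset.mem_erase.mpr ⟨Ne.symm hab, hb⟩),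
        Finset.card_erase_of_mem ha, hP])
  have hm : ∀ x ∈ ({c, d, f} : Finset α), x ≠ a ∧ x ≠ b ∧ x ∈ P := fun x hx => by
    rw [← hcdf] at hx
    exact ⟨Finset.ne_of_mem_erase (Finset.mem_of_mem_erase hx), Finset.ne_of_mem_erase hx,
      Finset.mem_of_mem_erase (Finset.mem_of_mem_erase hx)⟩
  obtain ⟨hca, hcb, hcP⟩ := hm c (by simp)
  obtain ⟨hda, hdb, hdP⟩ := hm d (by simp)
  obtain ⟨hfa, hfb, hfP⟩ := hm f (by simp)
  have inj5 : ∀ {p q r s t : α}, p ≠ q → p ≠ r → p ≠ s → p ≠ t → q ≠ r → q ≠ s → q ≠ t → r ≠ s →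
      r ≠ t → s ≠ t → Function.Injective ![p, q, r, s, t] := by
    intro p q r s t h1 h2 h3 h4 h5 h6 h7 h8 h9 h10 i j
    fin_cases i <;> fin_cases j <;> simp [h1, h2, h3, h4, h5, h6, h7, h8, h9, h10, h1.symm,
      h2.symm, h3.symm, h4.symm, h5.symm, h6.symm, h7.symm, h8.symm, h9.symm, h10.symm]
  obtain ⟨g, hg⟩ := MulAction.exists_smul_eq G
    (⟨_, inj5 hab hca.symm hda.symm hfa.symm hcb.symm hdb.symm hfb.symm hcd hcf hdf⟩ : Fin 5 ↪ α)
    ⟨_, inj5 hab hda.symm hfa.symm hca.symm hdb.symm hfb.symm hcb.symm hdf hcd.symm hcf.symm⟩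
  have ga : g • a = a := DFunLike.congr_fun hg 0
  have gb : g • b = b := DFunLike.congr_fun hg 1
  have gc : g • c = d := DFunLike.congr_fun hg 2
  have gd : g • d = f := DFunLike.congr_fun hg 3
  have gf : g • f = c := DFunLike.congr_fun hg 4
  have hPeq : P = insert a (insert b {c, d, f}) := by
    rw [← hcdf, Finset.insert_erase (Finset.mem_erase.mpr ⟨Ne.symm hab, hb⟩),
      Finset.insert_erase ha]
  have hgP : ∀ x ∈ P, g • x ∈ P := fun x hx => by
    rw [hPeq] at hx
    simp only [Finset.mem_insert, Finset.mem_singleton] at hx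
    rcases hx with rfl | rfl | rfl | rfl | rfl
    · rw [ga]; exact ha
    · rw [gb]; exact hb
    · rw [gc]; exact hdP
    · rw [gd]; exact hfP
    · rw [gf]; exact hcP
  have hga : (P.erase a).image (g • ·) = P.erase a := image_eq_of_forall g fun x hx =>
    Finset.mem_erase.mpr ⟨fun h => Finset.ne_of_mem_erase hx (by
      rw [← ga] at h; exact MulAction.injective g h), hgP x (Finset.mem_of_mem_erase hx)⟩
  have hgb : (P.erase b).image (g • ·) = P.erase b := image_eq_of_forall g fun x hx =>
    Finset.mem_erase.mpr ⟨fun h => Finset.ne_of_mem_erase hx (by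
      rw [← gb] at h; exact MulAction.injective g h), hgP x (Finset.mem_of_mem_erase hx)⟩
  have hge := he.2.2 g ga hga
  have hge' := he'.2.2 g gb hgb
  have hea : e ≠ a := he.1
  have heb : e ≠ b := fun h => he.2.1 (h ▸ Finset.mem_erase.mpr ⟨Ne.symm hab, hb⟩)
  have he'a : e' ≠ a := fun h => he'.2.1 (h ▸ Finset.mem_erase.mpr ⟨hab, ha⟩)
  have he'b : e' ≠ b := he'.1
  by_contra hne
  -- `g` has order 3 and fixes exactly three points
  have h3 : g ^ 3 = 1 := eq_one_of_five hsharp hα (s := P) hP.ge fun x hx => by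
    rw [hPeq] at hx
    simp only [Finset.mem_insert, Finset.mem_singleton] at hx
    rcases hx with rfl | rfl | rfl | rfl | rfl <;>
      simp [pow_succ, mul_smul, ga, gb, gc, gd, gf]
  set F := Finset.univ.filter fun x : α => g • x = x with hF
  have h4 : ({a, b, e, e'} : Finset α) ⊆ F := fun x hx => by
    simp only [Finset.mem_insert, Finset.mem_singleton] at hx
    rcases hx with rfl | rfl | rfl | rfl <;> simp [F, ga, gb, hge, hge']
  have hc4 : ({a, b, e, e'} : Finset α).card = 4 := by
    simp [hab, hea.symm, he'a.symm, heb.symm, he'b.symm, hne]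
  have hmod : 12 % 3 = F.card % 3 := by
    have : Fact (Nat.Prime 3) := ⟨Nat.prime_three⟩
    have h := Equiv.Perm.card_compl_support_modEq (n := 1)
      (σ := MulAction.toPermHom G α g) (p := 3) (by rw [pow_one, ← map_pow, h3, map_one])
    have hs : (MulAction.toPermHom G α g).supportᶜ = F := by ext x; simp [F]
    rw [hs, hα] at h
    exact h.symm
  have h5 : 5 ≤ F.card := by have := Finset.card_le_card h4; omega
  have h1 := eq_one_of_five hsharp hα h5 fun x hx => (Finset.mem_filter.mp hx).2
  rw [h1, one_smul] at gc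
  exact hcd gc

/-- Every five-set has a unique sixth point, and exchanging it gives the same block. -/
theorem exists_sixth {P : Finset α} (hP : P.card = 5) :
    ∃ e, IsSixth G P e ∧ (∀ e', IsSixth G P e' → e' = e) ∧
      ∀ x ∈ P, IsSixth G (insert e (P.erase x)) x := by
  classical
  have h5 : ∀ a ∈ P, ∃ e, IsFifth G a (P.erase a) e ∧ (∀ e', IsFifth G a (P.erase a) e' → e' = e) ∧
      ∀ x ∈ P.erase a, IsFifth G a (insert e ((P.erase a).erase x)) x := fun a ha =>
    exists_fifth_at hsharp hα a (Finset.notMem_erase a P)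
      (by rw [Finset.card_erase_of_mem ha, hP])
  obtain ⟨a₀, ha₀⟩ := Finset.card_pos.mp (show 0 < P.card by omega)
  obtain ⟨e, he, -, -⟩ := h5 a₀ ha₀
  have hall : ∀ a ∈ P, IsFifth G a (P.erase a) e := fun a ha => by
    obtain ⟨f, hf, -, -⟩ := h5 a ha
    rwa [fifth_eq hsharp hα hP ha₀ ha he hf]
  have heP : e ∉ P := fun h => he.2.1 (Finset.mem_erase.mpr ⟨he.1, h⟩)
  have fix_pt : ∀ a ∈ P, ∀ h : G, h • a = a → P.image (h • ·) = P → h • e = e :=
    fun a ha h hha hh => (hall a ha).2.2 h hha (by
      rw [Finset.image_erase (MulAction.injective h), hh, hha])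
  have hfix : ∀ h : G, P.image (h • ·) = P → h • e = e := by
    intro h hh
    by_cases hha : h • a₀ = a₀
    · exact fix_pt a₀ ha₀ h hha hh
    have hb : h • a₀ ∈ P := hh ▸ Finset.mem_image_of_mem _ ha₀
    obtain ⟨c, hc⟩ := Finset.card_pos.mp (show 0 < ((P.erase a₀).erase (h • a₀)).card by
      rw [Finset.card_erase_of_mem (Finset.mem_erase.mpr ⟨hha, hb⟩), Finset.card_erase_of_mem ha₀,
        hP]; norm_num)
    let σ := Equiv.swap a₀ (h • a₀)
    obtain ⟨x⟩ := Function.Embedding.nonempty_of_card_le (α := Fin 5) (β := P) (by simp [hP])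
    obtain ⟨k, hk⟩ := MulAction.exists_smul_eq G (x.trans (Function.Embedding.subtype (· ∈ P)))
      ((x.trans (Function.Embedding.subtype (· ∈ P))).trans σ.toEmbedding)
    have hkP : ∀ y ∈ P, k • y = σ y := fun y hy => by
      have hbij : Function.Bijective x :=
        (Fintype.bijective_iff_injective_and_card x).mpr ⟨x.injective, by simp [hP]⟩
      obtain ⟨i, hi⟩ := hbij.2 ⟨y, hy⟩
      have := DFunLike.congr_fun hk i
      simpa [hi] using this
    have hkim : P.image (k • ·) = P := image_eq_of_forall k fun y hy => by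
      rw [hkP y hy]
      by_cases h1 : y = a₀
      · rw [h1]; simpa [σ] using hb
      by_cases h2 : y = h • a₀
      · rw [h2]; simpa [σ] using ha₀
      simpa [σ, Equiv.swap_apply_of_ne_of_ne h1 h2] using hy
    simp only [Finset.mem_erase] at hc
    have hke : k • e = e := fix_pt c hc.2.2 k (by
      rw [hkP c hc.2.2]; exact Equiv.swap_apply_of_ne_of_ne hc.2.1 hc.1) hkim
    have := fix_pt a₀ ha₀ (k * h) (by rw [mul_smul, hkP _ hb, Equiv.swap_apply_right]) (by
      calc P.image ((k * h) • ·) = (P.image (h • ·)).image (k • ·) := by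
            rw [Finset.image_image]; exact Finset.image_congr fun y _ => mul_smul k h y
        _ = P := by rw [hh, hkim])
    rw [mul_smul] at this
    exact smul_left_cancel k (this.trans hke.symm)
  refine ⟨e, ⟨heP, hfix⟩, fun e' he' => ?_, fun x hx => ?_⟩
  · obtain ⟨f, -, hu, -⟩ := h5 a₀ ha₀
    rw [hu e (hall a₀ ha₀), hu e' ⟨fun h => he'.1 (h ▸ ha₀),
      fun h => he'.1 (Finset.mem_of_mem_erase h), fun h hha hh => he'.2 h (by
        conv_lhs => rw [← Finset.insert_erase ha₀, Finset.image_insert, hh, hha,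
          Finset.insert_erase ha₀])⟩]
  · set P' := insert e (P.erase x) with hP'
    have hxe : x ≠ e := fun h => heP (h ▸ hx)
    have hxP' : x ∉ P' := by simp [hP', hxe]
    have hP'c : P'.card = 5 := by
      rw [hP', Finset.card_insert_of_notMem (fun h => heP (Finset.mem_of_mem_erase h)),
        Finset.card_erase_of_mem hx, hP]
    have h5' : ∀ a ∈ P.erase x, IsFifth G a (P'.erase a) x := fun a ha => by
      obtain ⟨hax, haP⟩ := Finset.mem_erase.mp ha
      obtain ⟨f, hf, hu, hexch⟩ := h5 a haP
      have := hexch x (Finset.mem_erase.mpr ⟨Ne.symm hax, hx⟩)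
      rw [← hu e (hall a haP)] at this
      have hea : e ≠ a := fun h => heP (by rwa [h])
      rwa [hP', Finset.erase_insert_of_ne hea, Finset.erase_right_comm]
    refine ⟨hxP', fun h hh => ?_⟩
    obtain ⟨a, ha⟩ := Finset.card_pos.mp (show 0 < (P.erase x).card by
      rw [Finset.card_erase_of_mem hx, hP]; norm_num)
    have ha' : a ∈ P' := Finset.mem_insert_of_mem ha
    have hb : h • a ∈ P' := hh ▸ Finset.mem_image_of_mem _ ha'
    obtain ⟨f, hf, hu, -⟩ := exists_fifth_at hsharp hα (h • a) (Finset.notMem_erase (h • a) P')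
      (by rw [Finset.card_erase_of_mem hb, hP'c])
    have hx' : IsFifth G (h • a) (P'.erase (h • a)) x := by
      obtain ⟨g, hg, -, -⟩ := exists_fifth_at hsharp hα (h • a) (Finset.notMem_erase (h • a) P')
        (by rw [Finset.card_erase_of_mem hb, hP'c])
      rwa [fifth_eq hsharp hα hP'c ha' hb (h5' a ha) hg]
    obtain ⟨h1, h2, h3⟩ := h5' a ha
    have hhx : IsFifth G (h • a) (P'.erase (h • a)) (h • x) := by
      refine ⟨fun e' => h1 (smul_left_cancel h e'), fun e' => hxP' ?_, fun k hka hk => ?_⟩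
      · obtain ⟨w, hw, hwx⟩ := Finset.mem_image.mp
          (hh.symm ▸ Finset.mem_of_mem_erase e' : h • x ∈ P'.image (h • ·))
        exact smul_left_cancel h hwx ▸ hw
      · have him : (P'.erase a).image (h • ·) = P'.erase (h • a) := by
          rw [Finset.image_erase (MulAction.injective h), hh]
        have := h3 (h⁻¹ * k * h) (by rw [mul_smul, mul_smul, hka, inv_smul_smul]) (by
          calc (P'.erase a).image ((h⁻¹ * k * h) • ·)
              = (((P'.erase a).image (h • ·)).image (k • ·)).image (h⁻¹ • ·) := by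
                rw [Finset.image_image, Finset.image_image]
                exact Finset.image_congr fun y _ => by simp [mul_smul]
            _ = P'.erase a := by
                rw [him, hk, ← him, Finset.image_image]
                simp [Function.comp_def])
        rwa [mul_smul, mul_smul, inv_smul_eq_iff] at this
    exact (hu _ hhx).trans (hu x hx').symm

theorem steiner_blocks12 : Cfsg.IsSteinerSystem 5 6 (blocks12 G α) := by
  classical
  refine ⟨?_, fun s hs => ?_⟩
  · rintro B ⟨P, e, hP, he, rfl⟩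
    rw [Finset.card_insert_of_notMem he.1, hP]
  obtain ⟨e, he, hu, -⟩ := exists_sixth hsharp hα hs
  refine ⟨insert e s, ⟨⟨s, e, hs, he, rfl⟩, Finset.subset_insert _ _⟩, ?_⟩
  rintro B ⟨⟨P, f, hP, hf, rfl⟩, hsB⟩
  by_cases hfs : f ∈ s
  · obtain ⟨x, hxP, hxs⟩ : ∃ x ∈ P, x ∉ s := by
      by_contra h
      push Not at h
      exact hf.1 (Finset.eq_of_subset_of_card_le h (by rw [hs, hP]) ▸ hfs)
    obtain ⟨f', -, huP, hexch⟩ := exists_sixth hsharp hα hP
    have hff : f = f' := huP f hf
    have hsP : s = insert f (P.erase x) := by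
      refine Finset.eq_of_subset_of_card_le (fun y hy => ?_) ?_
      · rcases Finset.mem_insert.mp (hsB hy) with h | h
        · exact Finset.mem_insert.mpr (Or.inl h)
        · exact Finset.mem_insert_of_mem (Finset.mem_erase.mpr ⟨fun e' => hxs (e' ▸ hy), h⟩)
      · rw [hs, Finset.card_insert_of_notMem (fun h => hf.1 (Finset.mem_of_mem_erase h)),
          Finset.card_erase_of_mem hxP, hP]
    have hxe : x = e := hu x (by rw [hsP, hff]; exact hexch x hxP)
    rw [← hxe, hsP, Finset.insert_comm, Finset.insert_erase hxP]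
  · have hsP : s = P := Finset.eq_of_subset_of_card_le
      (fun y hy => (Finset.mem_insert.mp (hsB hy)).resolve_left (fun h => hfs (h ▸ hy)))
      (by rw [hs, hP])
    subst hsP
    rw [hu f hf]

/-- A sharply 5-transitive group of degree 12 is the automorphism group of an S(5, 6, 12). -/
theorem exists_mulEquiv_of_sharp :
    ∃ B : Set (Finset α), Cfsg.IsSteinerSystem 5 6 B ∧ Nonempty (G ≃* Cfsg.setSystemAut B) := by
  classical
  refine ⟨blocks12 G α, steiner_blocks12 hsharp hα, ?_⟩
  have hmem : ∀ g : G, MulAction.toPermHom G α g ∈ Cfsg.setSystemAut (blocks12 G α) := by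
    intro g
    rw [mem_setSystemAut]
    refine Set.eq_of_subset_of_ncard_le ?_ ?_ (Set.toFinite _)
    swap
    · rw [Set.ncard_image_of_injective _ (Finset.image_injective (Equiv.injective _))]
    rintro _ ⟨B, ⟨P, e, hP, ⟨he, hfix⟩, rfl⟩, rfl⟩
    refine ⟨P.image (g • ·), g • e,
      by rw [Finset.card_image_of_injective _ (MulAction.injective g), hP],
      ⟨fun h => he ?_, fun h hh => ?_⟩, ?_⟩
    · obtain ⟨w, hw, hwe⟩ := Finset.mem_image.mp h
      exact MulAction.injective g hwe ▸ hw
    · have h1 : P.image ((g⁻¹ * h * g) • ·) = P := by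
        have := congrArg (fun S : Finset α => S.image (g⁻¹ • ·)) hh
        simp only [Finset.image_image] at this
        calc P.image ((g⁻¹ * h * g) • ·)
            = P.image ((g⁻¹ • ·) ∘ (h • ·) ∘ (g • ·)) := by
              refine Finset.image_congr fun x _ => ?_
              simp [mul_smul]
          _ = P.image ((g⁻¹ • ·) ∘ (g • ·)) := this
          _ = P := by simp [Function.comp_def]
      have h2 := hfix _ h1
      rwa [mul_smul, mul_smul, inv_smul_eq_iff] at h2
    · simp only [Finset.image_insert]; rfl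
  let f := (MulAction.toPermHom G α).codRestrict (Cfsg.setSystemAut (blocks12 G α)) hmem
  have := faithful_of_sharp (G := G) (α := α) (k := 5)
    (by rw [Nat.card_eq_fintype_card, hα]; norm_num) hsharp
  have hinj : Function.Injective f := fun x y h =>
    MulAction.toPerm_injective (congrArg Subtype.val h)
  obtain ⟨hM, -, -⟩ := aut12_facts hα (steiner_blocks12 hsharp hα)
  have hG := (simple_of_sharp5_degree12 (α := α) (by rw [Nat.card_eq_fintype_card, hα]) hsharp).2
  exact ⟨MulEquiv.ofBijective f (hinj.bijective_of_nat_card_le (by rw [hG, hM.2]))⟩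

/-- A sharply 5-transitive group of degree 12 is isomorphic to the model. -/
theorem exists_mulEquiv_model : Nonempty (G ≃* Cfsg.setSystemAut (decSet 12 model12)) := by
  classical
  obtain ⟨B, hB, ⟨φ⟩⟩ := exists_mulEquiv_of_sharp hsharp hα
  let a := Fintype.equivFinOfCardEq hα
  obtain ⟨e, he⟩ := normalForm12 _ (steiner_image hB a)
  rw [Set.image_image] at he
  simp only [Finset.image_image] at he
  obtain ⟨f, -⟩ := exists_mulEquiv_setSystemAut (B := B) (B' := decSet 12 model12) (a.trans e) he
  exact ⟨φ.trans f⟩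

omit hsharp hα in
/-- The concrete M₁₂ is isomorphic to the model. -/
theorem exists_mulEquiv_model_M12 :
    Nonempty (Spor.M12 ≃* Cfsg.setSystemAut (decSet 12 model12)) := by
  classical
  have : Fintype Golay.dSub := Fintype.ofFinite _
  have := Golay.dSub_five_transitive
  refine exists_mulEquiv_model (G := Spor.M12) (α := Golay.dSub) (fun x => ?_)
    (by rw [← Nat.card_eq_fintype_card, Golay.card_dSub])
  rw [eq_bot_iff]
  intro g hg
  rw [Subgroup.mem_bot]
  refine Subtype.ext (Golay.eq12_of_five g.2 Spor.M12.one_mem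
    (s := Finset.univ.image fun i => ((x i : Golay.dSub) : GolayPt)) (fun p hp => ?_) ?_ ?_)
  · obtain ⟨i, -, rfl⟩ := Finset.mem_image.mp hp
    exact (x i).2
  · rw [Finset.card_image_of_injective _ (fun i j e => x.injective (Subtype.ext e))]
    simp
  · intro p hp
    obtain ⟨i, -, rfl⟩ := Finset.mem_image.mp hp
    exact congrArg Subtype.val (DFunLike.congr_fun hg i)

/-- **The sharply 5-transitive group of degree 12 is M₁₂.** -/
theorem nonempty_mulEquiv_M12 {d : Finset GolayPt} (hd : d ∈ Cfsg.dodecads) :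
    Nonempty (G ≃* MulAction.stabilizer Cfsg.M24 d) := by
  obtain ⟨f⟩ := exists_mulEquiv_model hsharp hα
  obtain ⟨k⟩ := exists_mulEquiv_model_M12
  obtain ⟨a, ha, had⟩ := Golay.exists_conj12 hd
  exact ⟨(f.trans k.symm).trans (Golay.stabEquivM12 ha had).symm⟩

end Cfsg.Agent.M12Rec99
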